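import Cfsg.Agent.ChevSteinberg.WeylCosets
import Cfsg.Agent.ChevUnip.WeylJ

/-!
# Double coset representatives carrying a whole parabolic into another

For `K, L` sets of fundamental roots, the minimal representatives `w` of `W_K \ W / W_L` with
`w⁻¹` mapping every root of `K` to one of `L`; their alternating count over `L` is `(-1) ^ |K|`.
-/

set_option autoImplicit false
set_option linter.unusedSectionVars false

namespace CfsgLib.ChevSS

open Cfsg.Lie CfsgLib CfsgLib.Weyl CfsgLib.ChevSteinberg

variable {D : ChevalleyDatum} {C : Weyl.Cert D.rank} {M : CoxeterMatrix (Fin D.rank)}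
  {R : Weyl.RootTable}

local notation "ℓ" => CoxeterSystem.length (CoxeterMatrix.toCoxeterSystem M)

/-- The fundamental roots of `K` sent by `w⁻¹` to fundamental roots of `L`. -/
def meetSet (h : RootGood C M R) (K L : Finset (Fin D.rank)) (w : M.Group) : Finset (Fin D.rank) :=
  K.filter fun k => ∃ l ∈ L, h.rootPerm w⁻¹ (h.simpleRoot k) = h.simpleRoot l

/-- `w` is a double coset representative with `w⁻¹ K` inside `L`. -/
def Full (h : RootGood C M R) (K L : Finset (Fin D.rank)) (w : M.Group) : Prop :=
  DMin h (K : Set (Fin D.rank)) (L : Set (Fin D.rank)) w ∧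
    ∀ k ∈ K, ∃ l ∈ L, h.rootPerm w⁻¹ (h.simpleRoot k) = h.simpleRoot l

variable (h : RootGood C M R)

theorem full_iff {K L : Finset (Fin D.rank)} {w : M.Group} :
    Full h K L w ↔ DMin h (K : Set (Fin D.rank)) (L : Set (Fin D.rank)) w ∧
      meetSet h K L w = K := by
  rw [Full, meetSet, Finset.filter_eq_self]

theorem simple_eq_of_neg {r : Fin D.nroots} {l : Fin D.rank} (hr : PosIdx r)
    (hn : ¬ PosIdx (h.rootPerm (M.simple l) r)) : r = h.simpleRoot l :=
  by_contra fun hne => hn (h.pos_simple_apply hne hr)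

theorem corootAt_simple_apply (l : Fin D.rank) (r : Fin D.nroots) {k : Fin D.rank} (hk : k ≠ l) :
    corootAt D (h.rootPerm (M.simple l) r) k = corootAt D r k :=
  coeff_eq h (simple_mem_WJ (J := {l}) rfl) r (by simpa using hk)

/-- A positive root of height one is fundamental. -/
theorem exists_simple_of_ht_one {r : Fin D.nroots} (hr : PosIdx r) (h1 : corootHt D r = 1) :
    ∃ l : Fin D.rank, corootAt D r l = 1 ∧ r = h.simpleRoot l := by
  have hnn : ∀ k : Fin D.rank, 0 ≤ corootAt D r k := fun k =>
    (h.root_facts r.2).2.2.2.2.2.1 k hr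
  obtain ⟨l, hl⟩ : ∃ l : Fin D.rank, 0 < corootAt D r l := by
    by_contra hc
    push Not at hc
    have : corootHt D r ≤ 0 := Finset.sum_nonpos fun k _ => hc k
    omega
  have hoth : ∀ k : Fin D.rank, k ≠ l → corootAt D r k = 0 := by
    intro k hk
    have := Finset.add_le_sum (f := fun k : Fin D.rank => corootAt D r k)
      (fun k _ => hnn k) (Finset.mem_univ l) (Finset.mem_univ k) hk.symm
    have := hnn k
    rw [corootHt] at h1
    omega
  have hl1 : corootAt D r l = 1 := by
    rw [corootHt, Finset.sum_eq_single l (fun k _ hk => hoth k hk) (by simp)] at h1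
    exact h1
  refine ⟨l, hl1, simple_eq_of_neg h hr fun hp => ?_⟩
  -- otherwise the reflected root would be positive of height at most zero
  have hz : ∀ k : Fin D.rank, k ≠ l → corootAt D (h.rootPerm (M.simple l) r) k = 0 := fun k hk => by
    rw [corootAt_simple_apply h l r hk, hoth k hk]
  have h2 : corootHt D (h.rootPerm (M.simple l) r) = corootAt D (h.rootPerm (M.simple l) r) l := by
    rw [corootHt, Finset.sum_eq_single l (fun k _ hk => hz k hk) (by simp)]
  have h3 : corootAt D (h.rootPerm (M.simple l) r) l = -1 := by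
    rw [← RootGood.pair_simple_coroot (D := D), h.pair_symm, simple_inv, rep_simple_apply h,
      rootPair]
    rw [Finset.sum_eq_single l (fun k _ hk => by rw [hoth k hk]; simp) (by simp)]
    rw [Pi.sub_apply, Pi.smul_apply, Pi.single_eq_same, diag_eq_two h, hl1]
    simp
  have : 0 < corootHt D (h.rootPerm (M.simple l) r) := hp
  omega

/-- A positive root of `L` sent by `w` to a fundamental root is fundamental, if `w` is minimal. -/
theorem exists_simple_of_apply {L : Set (Fin D.rank)} {w : M.Group} (hw : MinR h L w)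
    {r : Fin D.nroots} (hr : PosIdx r) (hs : Supp L r) {k : Fin D.rank}
    (e : h.rootPerm w r = h.simpleRoot k) : ∃ l ∈ L, r = h.simpleRoot l := by
  have hk1 : corootHt D (h.simpleRoot k) = 1 := by
    rw [corootHt, Finset.sum_eq_single k
      (fun j _ hj => by rw [ChevUnip.corootAt_simpleRoot h, if_neg hj]) (by simp),
      ChevUnip.corootAt_simpleRoot h, if_pos rfl]
  have h1 : ∑ l : Fin D.rank, (h.good.rep w⁻¹ 1) l * corootAt D r l = 1 := by
    rw [← hk1, ← e, ← RootGood.pair_one, h.pair_symm, rootPair]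
  have hnn : ∀ l : Fin D.rank, 0 ≤ corootAt D r l := fun l =>
    (h.root_facts r.2).2.2.2.2.2.1 l hr
  have hge : ∀ l : Fin D.rank, corootAt D r l ≤ (h.good.rep w⁻¹ 1) l * corootAt D r l := by
    intro l
    rcases eq_or_ne (corootAt D r l) 0 with h0 | h0
    · simp [h0]
    · have hl : l ∈ L := by_contra fun hn => h0 (hs l hn)
      have hp : 0 < corootHt D (h.rootPerm w (h.simpleRoot l)) := hw l hl
      rw [← RootGood.pair_one, h.pair_symm, h.pair_simple] at hp
      exact le_mul_of_one_le_left (hnn l) (by omega)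
  have hle : corootHt D r ≤ 1 := h1 ▸ Finset.sum_le_sum fun l _ => hge l
  have hpos : 0 < corootHt D r := hr
  obtain ⟨l, hl1, el⟩ := exists_simple_of_ht_one h hr (by omega)
  exact ⟨l, by_contra fun hn => by rw [hs l hn] at hl1; exact zero_ne_one hl1, el⟩

/-- `W_K ∩ w W_L w⁻¹` is generated by the reflections of `meetSet`. -/
theorem mem_wSub_meetSet {K L : Finset (Fin D.rank)} {w : M.Group}
    (hw : DMin h (K : Set (Fin D.rank)) (L : Set (Fin D.rank)) w) {v : M.Group}
    (hv : v ∈ ChevUnip.wSub M K) (hv' : w⁻¹ * v * w ∈ ChevUnip.wSub M L) :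
    v ∈ ChevUnip.wSub M (meetSet h K L w) := by
  generalize hn : ℓ v = n
  induction n using Nat.strong_induction_on generalizing v with
  | _ n ih =>
    by_cases hv1 : v = 1
    · rw [hv1]; exact one_mem _
    obtain ⟨k, hk, hneg⟩ := ChevUnip.exists_descent h hv hv1
    set r := h.rootPerm w⁻¹ (h.simpleRoot k) with hr
    have hrpos : PosIdx r := hw.2 k (Finset.mem_coe.2 hk)
    have e : h.rootPerm w r = h.simpleRoot k := rootPerm_inv_apply h w _
    have hsupp : Supp (L : Set (Fin D.rank)) r := by
      refine by_contra fun hs => hneg ?_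
      have h1 := pos_of_not_supp h (J := (L : Set (Fin D.rank))) hv' hrpos hs
      rw [map_mul, map_mul, Equiv.Perm.mul_apply, Equiv.Perm.mul_apply, e] at h1
      by_contra h2
      have h3 : ChevUnip.SuppJ K (h.negRoot (h.rootPerm v (h.simpleRoot k))) :=
        (ChevUnip.suppJ_negRoot_iff h _).2 ((ChevUnip.suppJ_apply_iff h hv _).2
          (ChevUnip.suppJ_simpleRoot h hk))
      have h4 := pos_of_minR h hw.2 ((h.pos_negRoot _).2 h2) h3
      rw [h.rootPerm_neg, h.pos_negRoot] at h4
      exact h4 h1
    obtain ⟨l, hl, el⟩ := exists_simple_of_apply h hw.1 hrpos hsupp e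
    rw [el] at e
    have hkm : k ∈ meetSet h K L w :=
      Finset.mem_filter.2 ⟨hk, l, Finset.mem_coe.1 hl, el⟩
    have hcomm : w * M.simple l = M.simple k * w := mul_simple_eq h e
    have hlt := (h.length_mul_simple_lt_iff v k).2 hneg
    have h5 := ih _ (by omega) (mul_mem hv (ChevUnip.simple_mem_wSub hk)) (by
      rw [show w⁻¹ * (v * M.simple k) * w = w⁻¹ * v * w * M.simple l by
        rw [mul_assoc (w⁻¹ * v) w, hcomm]; group]
      exact mul_mem hv' (ChevUnip.simple_mem_wSub (Finset.mem_coe.1 hl))) rfl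
    rw [← ChevUnip.mul_simple_mul_simple v k]
    exact mul_mem h5 (ChevUnip.simple_mem_wSub hkm)

/-- The fundamental roots which stay positive. -/
noncomputable def ascSet (w : M.Group) : Finset (Fin D.rank) := by
  classical exact Finset.univ.filter fun l => PosIdx (h.rootPerm w (h.simpleRoot l))

theorem mem_ascSet {w : M.Group} {l : Fin D.rank} :
    l ∈ ascSet h w ↔ PosIdx (h.rootPerm w (h.simpleRoot l)) := by
  classical simp [ascSet]

/-- The fundamental roots sent into `K`. -/
noncomputable def preSet (K : Finset (Fin D.rank)) (w : M.Group) : Finset (Fin D.rank) := by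
  classical exact
    Finset.univ.filter fun l => ∃ k ∈ K, h.rootPerm w (h.simpleRoot l) = h.simpleRoot k

theorem mem_preSet {K : Finset (Fin D.rank)} {w : M.Group} {l : Fin D.rank} :
    l ∈ preSet h K w ↔ ∃ k ∈ K, h.rootPerm w (h.simpleRoot l) = h.simpleRoot k := by
  classical simp [preSet]

/-- `w⁻¹` sends `K` to fundamental roots. -/
def SendsSimple (K : Finset (Fin D.rank)) (w : M.Group) : Prop :=
  ∀ k ∈ K, ∃ l, h.rootPerm w⁻¹ (h.simpleRoot k) = h.simpleRoot l

theorem simpleRoot_injective : Function.Injective h.simpleRoot := by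
  intro a b e
  have h1 := ChevUnip.corootAt_simpleRoot h a a
  rw [if_pos rfl, e, ChevUnip.corootAt_simpleRoot h b a] at h1
  by_contra hne
  rw [if_neg hne] at h1
  exact zero_ne_one h1

theorem full_iff_sets {K L : Finset (Fin D.rank)} {w : M.Group} :
    Full h K L w ↔ SendsSimple h K w ∧ preSet h K w ⊆ L ∧ L ⊆ ascSet h w := by
  constructor
  · rintro ⟨hw, hf⟩
    refine ⟨fun k hk => (hf k hk).imp fun l e => e.2, fun l hl => ?_,
      fun l hl => (mem_ascSet h).2 (hw.1 l (Finset.mem_coe.2 hl))⟩
    obtain ⟨k, hk, e⟩ := (mem_preSet h).1 hl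
    obtain ⟨l', hl', e'⟩ := hf k hk
    rw [← e, rootPerm_apply_inv h] at e'
    rwa [simpleRoot_injective h e']
  · rintro ⟨hs, hp, ha⟩
    refine ⟨⟨fun l hl => (mem_ascSet h).1 (ha (Finset.mem_coe.1 hl)), fun k hk => ?_⟩, fun k hk => ?_⟩
    · obtain ⟨l, e⟩ := hs k (Finset.mem_coe.1 hk)
      rw [e]
      exact h.pos_simpleRoot l
    · obtain ⟨l, e⟩ := hs k hk
      exact ⟨l, hp ((mem_preSet h).2 ⟨k, hk, by rw [← e, rootPerm_inv_apply h]⟩), e⟩

theorem preSet_subset (K : Finset (Fin D.rank)) (w : M.Group) : preSet h K w ⊆ ascSet h w := by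
  intro l hl
  obtain ⟨k, -, e⟩ := (mem_preSet h).1 hl
  rw [mem_ascSet, e]
  exact h.pos_simpleRoot k

theorem card_preSet {K : Finset (Fin D.rank)} {w : M.Group} (hs : SendsSimple h K w) :
    (preSet h K w).card = K.card := by
  choose f hf using fun l (hl : l ∈ preSet h K w) => (mem_preSet h).1 hl
  refine Finset.card_bij f (fun l hl => (hf l hl).1) (fun a ha b hb e => ?_) fun k hk => ?_
  · exact simpleRoot_injective h ((h.rootPerm w).injective
      ((hf a ha).2.trans ((congrArg h.simpleRoot e).trans (hf b hb).2.symm)))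
  · obtain ⟨l, e⟩ := hs k hk
    have e' : h.rootPerm w (h.simpleRoot l) = h.simpleRoot k := by
      rw [← e, rootPerm_inv_apply h]
    have hl : l ∈ preSet h K w := (mem_preSet h).2 ⟨k, hk, e'⟩
    exact ⟨l, hl, simpleRoot_injective h ((hf l hl).2.symm.trans e')⟩

theorem eq_top_mul_top {K : Finset (Fin D.rank)} {w t t₀ : M.Group}
    (ht : ChevUnip.IsTopRep h K t) (ht₀ : AllDesc h t₀) (hw : SendsSimple h K w)
    (ha : preSet h K w = ascSet h w) : w = t * t₀ := by
  have hall : AllDesc h (t * w) := by
    intro j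
    rw [map_mul, Equiv.Perm.mul_apply]
    by_cases hj : j ∈ preSet h K w
    · obtain ⟨k, hk, e⟩ := (mem_preSet h).1 hj
      rw [e]
      exact ht.2 k hk
    · have hneg : ¬ PosIdx (h.rootPerm w (h.simpleRoot j)) := fun hp =>
        hj (ha ▸ (mem_ascSet h).2 hp)
      have hns : ¬ ChevUnip.SuppJ K (h.rootPerm w (h.simpleRoot j)) := by
        intro hs
        have hmin : MinR h (K : Set (Fin D.rank)) w⁻¹ := fun k hk => by
          obtain ⟨l, e⟩ := hw k (Finset.mem_coe.1 hk)
          rw [e]
          exact h.pos_simpleRoot l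
        have h1 := pos_of_minR h hmin ((h.pos_negRoot _).2 hneg)
          ((ChevUnip.suppJ_negRoot_iff h _).2 hs)
        rw [h.rootPerm_neg, rootPerm_apply_inv h, h.pos_negRoot] at h1
        exact h1 (h.pos_simpleRoot j)
      rwa [ChevUnip.pos_apply_iff h ht.1 hns]
  obtain ⟨t₁, -, huniq⟩ := existsUnique_allDesc h
  rw [← (huniq _ hall).trans (huniq _ ht₀).symm, ← mul_assoc, ChevUnip.top_mul_top h ht ht, one_mul]

theorem top_mul_top_spec {K : Finset (Fin D.rank)} {t t₀ : M.Group}
    (ht : ChevUnip.IsTopRep h K t) (ht₀ : ChevUnip.IsTopRep h Finset.univ t₀) :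
    SendsSimple h K (t * t₀) ∧ preSet h K (t * t₀) = ascSet h (t * t₀) := by
  refine ⟨fun k hk => ?_, (preSet_subset h K _).antisymm fun l hl => ?_⟩
  · obtain ⟨i, -, -, e⟩ := ChevUnip.exists_top_conj h ht hk
    obtain ⟨j, -, -, e'⟩ := ChevUnip.exists_top_conj h ht₀ (Finset.mem_univ i)
    refine ⟨j, ?_⟩
    rw [mul_inv_rev, ChevUnip.top_inv h ht, ChevUnip.top_inv h ht₀, map_mul, Equiv.Perm.mul_apply, e,
      h.rootPerm_neg, e', h.negRoot_negRoot]
  · rw [mem_ascSet, map_mul, Equiv.Perm.mul_apply] at hl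
    obtain ⟨i, -, -, e⟩ := ChevUnip.exists_top_conj h ht₀ (Finset.mem_univ l)
    rw [e, h.rootPerm_neg, h.pos_negRoot] at hl
    have hi : i ∈ K := ChevUnip.mem_of_suppJ_simpleRoot h
      (ChevUnip.suppJ_of_inv h ht.1 (h.pos_simpleRoot i) hl)
    obtain ⟨k, hk, -, ek⟩ := ChevUnip.exists_top_conj h ht hi
    exact (mem_preSet h).2 ⟨k, hk, by
      rw [map_mul, Equiv.Perm.mul_apply, e, h.rootPerm_neg, ek, h.negRoot_negRoot]⟩

open scoped Classical in
/-- The alternating count. -/
theorem sum_full [Fintype M.Group] (K : Finset (Fin D.rank)) :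
    ∑ L : Finset (Fin D.rank), (-1 : ℤ) ^ L.card * (Nat.card {w : M.Group // Full h K L w} : ℤ) =
      (-1 : ℤ) ^ K.card := by
  obtain ⟨t, ht⟩ := ChevUnip.exists_topRep h K
  obtain ⟨t₀, ht₀⟩ := ChevUnip.exists_topRep h Finset.univ
  have hall : AllDesc h t₀ := fun i => ht₀.2 i (Finset.mem_univ i)
  have h1 : ∀ w : M.Group, (∑ L : Finset (Fin D.rank),
      (-1 : ℤ) ^ L.card * if Full h K L w then 1 else 0) =
      if SendsSimple h K w ∧ preSet h K w = ascSet h w then (-1) ^ K.card else 0 := by
    intro w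
    simp only [mul_ite, mul_one, mul_zero, ← Finset.sum_filter, full_iff_sets]
    by_cases hs : SendsSimple h K w
    · simp only [hs, true_and]
      have e : (Finset.univ.filter fun L : Finset (Fin D.rank) =>
          preSet h K w ⊆ L ∧ L ⊆ ascSet h w) =
          (ascSet h w \ preSet h K w).powerset.image (preSet h K w ∪ ·) := by
        ext L
        simp only [Finset.mem_filter, Finset.mem_univ, true_and, Finset.mem_image,
          Finset.mem_powerset]
        constructor
        · rintro ⟨h2, h3⟩
          exact ⟨L \ preSet h K w, Finset.sdiff_subset_sdiff h3 le_rfl,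
            Finset.union_sdiff_of_subset h2⟩
        · rintro ⟨S, hS, rfl⟩
          exact ⟨Finset.subset_union_left, Finset.union_subset (preSet_subset h K w)
            (hS.trans Finset.sdiff_subset)⟩
      have hd : ∀ S ∈ (ascSet h w \ preSet h K w).powerset, Disjoint (preSet h K w) S := fun S hS =>
        Finset.disjoint_of_subset_right (Finset.mem_powerset.1 hS) Finset.disjoint_sdiff
      rw [e, Finset.sum_image fun a ha b hb e => by
        rw [← Finset.union_sdiff_cancel_left (hd a ha), e, Finset.union_sdiff_cancel_left (hd b hb)]]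
      rw [Finset.sum_congr rfl fun S hS => by
          rw [Finset.card_union_of_disjoint (hd S hS), pow_add, card_preSet h hs],
        ← Finset.mul_sum, Finset.sum_powerset_neg_one_pow_card]
      have hiff : ascSet h w \ preSet h K w = ∅ ↔ preSet h K w = ascSet h w := by
        rw [Finset.sdiff_eq_empty_iff_subset]
        exact ⟨fun h2 => (preSet_subset h K w).antisymm h2, fun e => e ▸ subset_rfl⟩
      simp only [hiff]
      split_ifs <;> simp
    · simp [hs]
  simp only [Nat.card_eq_fintype_card, Fintype.card_subtype, Finset.card_filter, Nat.cast_sum,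
    Nat.cast_ite, Nat.cast_one, Nat.cast_zero, Finset.mul_sum]
  rw [Finset.sum_comm, Finset.sum_congr rfl fun w _ => h1 w, ← Finset.sum_filter]
  have e : (Finset.univ.filter fun w : M.Group =>
      SendsSimple h K w ∧ preSet h K w = ascSet h w) = {t * t₀} := by
    ext w
    simp only [Finset.mem_filter, Finset.mem_univ, true_and, Finset.mem_singleton]
    exact ⟨fun h2 => eq_top_mul_top h ht hall h2.1 h2.2,
      fun e => e ▸ top_mul_top_spec h ht ht₀⟩
  rw [e, Finset.sum_singleton]

end CfsgLib.ChevSS
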