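import Cfsg.Agent.ChevSS.Twisted
import Cfsg.Agent.ChevSS.Weyl
import Cfsg.Agent.ChevSteinberg.Character
import Cfsg.Agent.ChevUnip.Count

/-!
# The Steinberg character at a semisimple element

For `s` of order prime to `p` in `P_K` but in no conjugate of a smaller parabolic, averaging over
`s U_K` gives `(-1) ^ |K|`, so the value at `s` is `± |C_{U_K}(s)|`; it is divisible by the order
of a Sylow `p`-subgroup of the centraliser, hence equal to it up to sign.
-/

set_option autoImplicit false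
set_option linter.unusedSectionVars false

namespace CfsgLib.ChevSS

open Cfsg.Lie CfsgLib CfsgLib.Chevalley CfsgLib.ChevUnip
open CfsgLib.ChevSteinberg (par DMin MinR)
open scoped MatrixGroups

variable {D : ChevalleyDatum} {C : Weyl.Cert D.rank} {M : CoxeterMatrix (Fin D.rank)}
  {R : Weyl.RootTable} {F : Type*} [Field F] (hW : GoodWeyl D) (h : Weyl.RootGood C M R)

local notation "ℓ" => CoxeterSystem.length (CoxeterMatrix.toCoxeterSystem M)

include hW in
theorem par_eq_PJ (L : Finset (Fin D.rank)) : par hW F (L : Set (Fin D.rank)) = PJ hW F L := by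
  rw [ChevSteinberg.par, PJ, Subgroup.closure_union, Subgroup.closure_eq]

/-- A parabolic subgroup inside the group. -/
abbrev pG (hW : GoodWeyl D) (F : Type*) [Field F] (L : Finset (Fin D.rank)) :
    Subgroup ↥(D.group F) :=
  (PJ hW F L).subgroupOf (D.group F)

/-- The unipotent radical inside the group. -/
abbrev qG (hW : GoodWeyl D) (F : Type*) [Field F] (K : Finset (Fin D.rank)) :
    Subgroup ↥(D.group F) :=
  (QJ hW F K).subgroupOf (D.group F)

/-- A representative inside the group. -/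
noncomputable def rep (w : M.Group) : ↥(D.group F) :=
  ⟨nW hW h F w, monomial_le_group hW (nW_mem hW h w)⟩

/-- The elements of `P_K` in no conjugate of a smaller parabolic inside `P_K`. -/
def Elliptic (K : Finset (Fin D.rank)) (s : ↥(D.group F)) : Prop :=
  s ∈ pG hW F K ∧ ∀ K', K' ⊂ K → ∀ g ∈ pG hW F K, g⁻¹ * s * g ∉ pG hW F K'

variable [Finite F]

theorem pG_le_normalizer (K : Finset (Fin D.rank)) (h : Weyl.RootGood C M R) :
    pG hW F K ≤ Subgroup.normalizer (qG hW F K : Set ↥(D.group F)) := by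
  intro g hg
  obtain ⟨t, ht⟩ := ChevUnip.exists_topRep h K
  have := Subgroup.mem_normalizer_iff.1 (PJ_le_normalizer hW h ht (Subgroup.mem_subgroupOf.1 hg))
  exact Subgroup.mem_normalizer_iff.2 fun u => by
    simp only [qG, Subgroup.mem_subgroupOf, Subgroup.coe_mul, Subgroup.coe_inv]
    exact this _

variable {K L : Finset (Fin D.rank)}

/-- If `w⁻¹` sends `K` into `L`, then `P_K n_w ⊆ U_K n_w P_L`. -/
theorem exists_conj_mem_of_full {w : M.Group} (hw : Full h K L w) {g : GL D.Idx F}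
    (hg : g ∈ PJ hW F K) :
    ∃ u ∈ QJ hW F K, (nW hW h F w)⁻¹ * (u⁻¹ * g) * nW hW h F w ∈ PJ hW F L := by
  obtain ⟨t, ht⟩ := ChevUnip.exists_topRep h K
  set n := nW hW h F w
  set X : Subgroup (GL D.Idx F) :=
    PJ hW F K ⊓ (PJ hW F L).comap (MulAut.conj n⁻¹).toMonoidHom
  have hX : ∀ x ∈ PJ hW F K, n⁻¹ * x * n ∈ PJ hW F L → x ∈ QJ hW F K ⊔ X := fun x h1 h2 =>
    Subgroup.mem_sup_right (Subgroup.mem_inf.2 ⟨h1, by
      rw [Subgroup.mem_comap]
      simpa [MulAut.conj_apply] using h2⟩)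
  have hdiag : ∀ k ∈ D.diagonalSubgroup F, n⁻¹ * k * n ∈ D.borelSubgroup F := fun k hk =>
    diag_le_borel D (ChevSteinberg.diag_conj_mem hW h (w := w) hk)
  have hle : PJ hW F K ≤ QJ hW F K ⊔ X := by
    refine sup_le (sup_le ?_ ?_) ((Subgroup.closure_le _).2 ?_)
    · rw [posUnipotent_eq_rootGen hW.good]
      refine rootGen_le _ fun r hr v => ?_
      have hp := (posIdx_iff hW.good h r).2 hr
      by_cases hs : SuppJ K r
      · refine hX _ (borel_le_PJ hW K (pos_le_borel D (X_mem_pos hW.good hr v))) ?_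
        obtain ⟨c, hc⟩ := (monBy_nW (F := F) hW h w).inv.conj_X r
        rw [inv_inv, ← map_inv] at hc
        rw [hc]
        exact borel_le_PJ hW L (pos_le_borel D (X_mem_pos hW.good
          ((posIdx_iff hW.good h _).1 (ChevSteinberg.pos_of_minR h hw.1.2 hp hs)) _))
      · exact Subgroup.mem_sup_left (X_mem_rootGen _ (S := radSet K)
          (show half D ≤ (r : ℕ) ∧ ¬ SuppJ K r from ⟨hr, hs⟩) v)
    · exact fun k hk => hX k (borel_le_PJ hW K (diag_le_borel D hk))
        (borel_le_PJ hW L (hdiag k hk))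
    · rintro _ ⟨j, hj, rfl⟩
      refine hX _ (nR_mem_PJ hW hj) ?_
      obtain ⟨l, hl, e⟩ := hw.2 j hj
      have e' : h.rootPerm w (h.simpleRoot l) = h.simpleRoot j := by
        rw [← e, ChevSteinberg.rootPerm_inv_apply h]
      have hcomm : w * M.simple l = M.simple j * w := ChevSteinberg.mul_simple_eq h e'
      obtain ⟨k, hk, ek⟩ := exists_nR_mul_nW (F := F) hW h j w
      obtain ⟨k', hk', ek'⟩ := ChevSteinberg.exists_nW_mul (F := F) hW h w (M.simple l)
      rw [show n⁻¹ * nR hW j * n = n⁻¹ * (nR hW j * n) by group, ek,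
        ← hcomm, eq_mul_inv_of_mul_eq ek'.symm,
        show n⁻¹ * (n * nW hW h F (M.simple l) * k'⁻¹ * k) =
          nW hW h F (M.simple l) * (k'⁻¹ * k) by group]
      exact mul_mem (nW_mem_PJ hW h (simple_mem_wSub hl))
        (borel_le_PJ hW L (diag_le_borel D (mul_mem (inv_mem hk') hk)))
  have hXn : X ≤ Subgroup.normalizer (QJ hW F K : Set (GL D.Idx F)) :=
    inf_le_left.trans (PJ_le_normalizer hW h ht)
  have hmem : g ∈ ((QJ hW F K ⊔ X : Subgroup _) : Set (GL D.Idx F)) := hle hg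
  rw [Subgroup.coe_mul_of_right_le_normalizer_left _ _ hXn, Set.mem_mul] at hmem
  obtain ⟨u, hu, x, hx, rfl⟩ := hmem
  refine ⟨u, hu, ?_⟩
  rw [inv_mul_cancel_left]
  simpa [MulAut.conj_apply] using Subgroup.mem_comap.1 (Subgroup.mem_inf.1 hx).2

/-- An element of `P_K ∩ n_w P_L n_w⁻¹` lies in the parabolic of `meetSet`. -/
theorem mem_PJ_meetSet {w : M.Group} (hw : DMin h (K : Set (Fin D.rank)) (L : Set (Fin D.rank)) w)
    {y : GL D.Idx F} (hy : y ∈ PJ hW F K) (hy' : (nW hW h F w)⁻¹ * y * nW hW h F w ∈ PJ hW F L) :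
    y ∈ PJ hW F (meetSet h K L w) := by
  obtain ⟨v, hv, hvc⟩ := exists_cell_of_mem_PJ hW h hy
  obtain ⟨v', hv', hvc'⟩ := exists_cell_of_mem_PJ hW h hy'
  have hl1 : ℓ (v * w) = ℓ v + ℓ w := by
    have := ChevSteinberg.length_mul h hw.2 (inv_mem hv)
    rw [← mul_inv_rev, M.toCoxeterSystem.length_inv, M.toCoxeterSystem.length_inv,
      M.toCoxeterSystem.length_inv] at this
    omega
  have hl2 : ℓ (w * v') = ℓ w + ℓ v' := ChevSteinberg.length_mul h hw.1 hv'
  have h1 := ChevSteinberg.cell_mul_cell hW h hl1 hvc (nW_mem_cell hW h w)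
  have h2 := ChevSteinberg.cell_mul_cell hW h hl2 (nW_mem_cell hW h w) hvc'
  rw [show nW hW h F w * ((nW hW h F w)⁻¹ * y * nW hW h F w) = y * nW hW h F w by group] at h2
  have e := cell_eq_of_mem hW h h1 h2
  refine cell_subset_PJ hW h (mem_wSub_meetSet h hw hv ?_) hvc
  rw [mul_assoc, e, inv_mul_cancel_left]
  exact hv'

/-- The `U_K`-orbits fixed by an elliptic element. -/
theorem fixedOrbits_eq {s : ↥(D.group F)} (hs : Elliptic hW K s) :
    fixedOrbits (qG hW F K) s (↥(D.group F) ⧸ pG hW F L) =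
      Nat.card {w : M.Group // Full h K L w} := by
  symm
  refine Nat.card_eq_of_bijective (fun w => ⟨Quotient.mk'' ((rep hW h w.1 : ↥(D.group F)) :
      ↥(D.group F) ⧸ pG hW F L), _, rfl, ?_⟩) ⟨?_, ?_⟩
  · obtain ⟨u, hu, hu'⟩ := exists_conj_mem_of_full hW h w.2 (Subgroup.mem_subgroupOf.1 hs.1)
    refine ⟨⟨⟨u, pos_le_borel D |>.trans (borel_le_group hW) (QJ_le_pos hW K hu)⟩,
      Subgroup.mem_subgroupOf.2 hu⟩, ?_⟩
    refine QuotientGroup.eq.2 (Subgroup.mem_subgroupOf.2 ?_)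
    show (u * nW hW h F w.1)⁻¹ * ((s : GL D.Idx F) * nW hW h F w.1) ∈ PJ hW F L
    rwa [show (u * nW hW h F w.1)⁻¹ * ((s : GL D.Idx F) * nW hW h F w.1) =
      (nW hW h F w.1)⁻¹ * (u⁻¹ * (s : GL D.Idx F)) * nW hW h F w.1 by group]
  · rintro ⟨w, hw⟩ ⟨w', hw'⟩ e
    obtain ⟨⟨q, hq⟩, e'⟩ := MulAction.orbitRel_apply.1 (Quotient.eq''.1 (congrArg Subtype.val e))
    have h1 := Subgroup.mem_subgroupOf.1 (QuotientGroup.eq.1
      (show ((q * rep hW h w' : ↥(D.group F)) : ↥(D.group F) ⧸ pG hW F L) = (rep hW h w : ↥(D.group F))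
        from e'))
    set y := ((q * rep hW h w')⁻¹ * rep hW h w : ↥(D.group F)) with hy
    have h2 : (nW hW h F w : GL D.Idx F) =
        (q : GL D.Idx F) * nW hW h F w' * (y : GL D.Idx F) := by
      rw [hy]
      show nW hW h F w = (q : GL D.Idx F) * nW hW h F w' *
        (((q : GL D.Idx F) * nW hW h F w')⁻¹ * nW hW h F w)
      group
    obtain ⟨v, hv, hvc⟩ := ChevSteinberg.cell_mul_par hW h (par_eq_PJ (F := F) hW L ▸ h1)
      (borel_mul_mem_cell hW h (QJ_le_borel hW K (Subgroup.mem_subgroupOf.1 hq))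
        (nW_mem_cell hW h w'))
    rw [← h2] at hvc
    have h3 := cell_eq_of_mem hW h (nW_mem_cell hW h w) hvc
    exact Subtype.ext (ChevSteinberg.dMin_unique h hw.1 hw'.1 (one_mem _) hv
      (by rw [one_mul]; exact h3))
  · rintro ⟨O, x, rfl, hx⟩
    induction x using QuotientGroup.induction_on with | _ g => ?_
    obtain ⟨x, b, hb, b', hb', hg⟩ := exists_mem_cell hW h g.2
    obtain ⟨z, u, v, hz, hu, hv, rfl⟩ :=
      ChevSteinberg.exists_dMin h (K : Set (Fin D.rank)) (L : Set (Fin D.rank)) x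
    obtain ⟨k, hk, e1⟩ := ChevSteinberg.exists_nW_mul (F := F) hW h u z
    obtain ⟨k', hk', e2⟩ := ChevSteinberg.exists_nW_mul (F := F) hW h (u * z) v
    have hp : b * nW hW h F u ∈ PJ hW F K :=
      mul_mem (borel_le_PJ hW K hb) (nW_mem_PJ hW h hu)
    set p₀ : ↥(D.group F) := ⟨b * nW hW h F u, PJ_le_group hW K hp⟩ with hp₀
    have hgx : (g : ↥(D.group F) ⧸ pG hW F L) = ((p₀ * rep hW h z : ↥(D.group F)) :
        ↥(D.group F) ⧸ pG hW F L) := by
      refine (QuotientGroup.eq.2 (Subgroup.mem_subgroupOf.2 ?_)).symm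
      show (b * nW hW h F u * nW hW h F z)⁻¹ * (g : GL D.Idx F) ∈ PJ hW F L
      rw [← hg, eq_mul_inv_of_mul_eq e2.symm, eq_mul_inv_of_mul_eq e1.symm,
        show ∀ b u z k v k' b' : GL D.Idx F, (b * u * z)⁻¹ * (b * (u * z * k⁻¹ * v * k'⁻¹) * b') =
          k⁻¹ * v * k'⁻¹ * b' from fun b u z k v k' b' => by group]
      exact mul_mem (mul_mem (mul_mem (borel_le_PJ hW L (diag_le_borel D (inv_mem hk)))
        (nW_mem_PJ hW h hv)) (borel_le_PJ hW L (diag_le_borel D (inv_mem hk'))))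
        (borel_le_PJ hW L hb')
    rw [hgx] at hx
    obtain ⟨⟨q, hq⟩, hqe⟩ := hx
    have h1 := Subgroup.mem_subgroupOf.1 (QuotientGroup.eq.1
      (show ((q * (p₀ * rep hW h z) : ↥(D.group F)) : ↥(D.group F) ⧸ pG hW F L) =
        ((s * (p₀ * rep hW h z) : ↥(D.group F)) : ↥(D.group F) ⧸ pG hW F L) from hqe))
    have hqK : q ∈ pG hW F K :=
      Subgroup.mem_subgroupOf.2 (borel_le_PJ hW K (QJ_le_borel hW K (Subgroup.mem_subgroupOf.1 hq)))
    have hp₀K : p₀ ∈ pG hW F K := Subgroup.mem_subgroupOf.2 hp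
    have hy : p₀⁻¹ * q⁻¹ * s * p₀ ∈ pG hW F K :=
      mul_mem (mul_mem (mul_mem (inv_mem hp₀K) (inv_mem hqK)) hs.1) hp₀K
    have hmeet := mem_PJ_meetSet hW h hz (Subgroup.mem_subgroupOf.1 hy) (by
      rw [show (nW hW h F z)⁻¹ * ((p₀⁻¹ * q⁻¹ * s * p₀ : ↥(D.group F)) : GL D.Idx F) *
          nW hW h F z = (((q * (p₀ * rep hW h z))⁻¹ * (s * (p₀ * rep hW h z)) : ↥(D.group F)) :
            GL D.Idx F) by
        show (nW hW h F z)⁻¹ * ((p₀ : GL D.Idx F)⁻¹ * (q : GL D.Idx F)⁻¹ * s * p₀) * nW hW h F z =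
          ((q : GL D.Idx F) * ((p₀ : GL D.Idx F) * nW hW h F z))⁻¹ *
            ((s : GL D.Idx F) * ((p₀ : GL D.Idx F) * nW hW h F z))
        group]
      exact h1)
    have hfull : Full h K L z := by
      refine (full_iff h).2 ⟨hz, ?_⟩
      by_contra hne
      have hsub : meetSet h K L z ⊆ K := Finset.filter_subset _ _
      refine hs.2 _ (lt_of_le_of_ne hsub hne) p₀ hp₀K (Subgroup.mem_subgroupOf.2 ?_)
      have hn := Subgroup.mem_normalizer_iff.1
        (inv_mem (pG_le_normalizer hW K h hp₀K)) q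
      rw [inv_inv] at hn
      have hq' := Subgroup.mem_subgroupOf.1 (hn.1 hq)
      show ((p₀⁻¹ * s * p₀ : ↥(D.group F)) : GL D.Idx F) ∈ _
      rw [show p₀⁻¹ * s * p₀ = p₀⁻¹ * q * p₀ * (p₀⁻¹ * q⁻¹ * s * p₀) by group, Subgroup.coe_mul]
      exact mul_mem (borel_le_PJ hW _ (QJ_le_borel hW K hq')) hmeet
    obtain ⟨u', hu', hu''⟩ := exists_conj_mem_of_full hW h hfull hp
    refine ⟨⟨z, hfull⟩, Subtype.ext (Quotient.eq''.2 (MulAction.orbitRel_apply.2
      ⟨⟨⟨u'⁻¹, PJ_le_group hW K (inv_mem (borel_le_PJ hW K (QJ_le_borel hW K hu')))⟩,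
        Subgroup.mem_subgroupOf.2 (inv_mem hu')⟩, ?_⟩))⟩
    show _ • (g : ↥(D.group F) ⧸ pG hW F L) = _
    rw [hgx]
    refine QuotientGroup.eq.2 (Subgroup.mem_subgroupOf.2 ?_)
    show (u'⁻¹ * (b * nW hW h F u * nW hW h F z))⁻¹ * nW hW h F z ∈ PJ hW F L
    rw [show (u'⁻¹ * (b * nW hW h F u * nW hW h F z))⁻¹ * nW hW h F z =
      ((nW hW h F z)⁻¹ * (u'⁻¹ * (b * nW hW h F u)) * nW hW h F z)⁻¹ by group]
    exact inv_mem hu''

theorem steinberg_sum (g : ↥(D.group F)) :
    D.steinbergCharacter F g = ∑ L : Finset (Fin D.rank), (-1 : ℂ) ^ L.card *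
      (Nat.card (MulAction.fixedBy (↥(D.group F) ⧸ pG hW F L) g) : ℂ) := by
  rw [ChevSteinberg.steinberg_eq hW]
  refine Finset.sum_congr rfl fun L _ => ?_
  rw [par_eq_PJ (F := F) hW L, Cfsg.fixedPointCharacter]

theorem sum_steinberg {Q : Subgroup ↥(D.group F)} [Fintype Q] {s : ↥(D.group F)}
    (hn : s ∈ Subgroup.normalizer (Q : Set ↥(D.group F))) :
    ∑ u : Q, D.steinbergCharacter F ((u : ↥(D.group F)) * s) = (Nat.card Q : ℂ) *
      ((∑ L : Finset (Fin D.rank), (-1 : ℤ) ^ L.card *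
        (fixedOrbits Q s (↥(D.group F) ⧸ pG hW F L) : ℤ) : ℤ) : ℂ) := by
  simp only [steinberg_sum hW]
  rw [Finset.sum_comm, Int.cast_sum, Finset.mul_sum]
  refine Finset.sum_congr rfl fun L _ => ?_
  rw [← Finset.mul_sum, ← Nat.cast_sum, sum_fixed hn]
  push_cast
  ring

include hW h in
/-- The value of the Steinberg character at an element of order prime to `p`. -/
theorem steinberg_semisimple (p : ℕ) [Fact p.Prime] [CharP F p] (g : ↥(D.group F))
    (hg : ¬ p ∣ orderOf g) :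
    D.steinbergCharacter F g = ((p ^ (Nat.card ↥(Subgroup.centralizer ({g} : Set ↥(D.group F)))).factorization p : ℕ) : ℂ) ∨
      D.steinbergCharacter F g = -((p ^ (Nat.card ↥(Subgroup.centralizer ({g} : Set ↥(D.group F)))).factorization p : ℕ) : ℂ) := by
  classical
  have hp : p.Prime := Fact.out
  have := h.finite_group
  let _ : Fintype M.Group := Fintype.ofFinite _
  let _ : Fintype ↥(D.group F) := Fintype.ofFinite _
  set f := D.steinbergCharacter F with hf
  have hclass : ∀ a x : ↥(D.group F), f (x * a * x⁻¹) = f a := fun a x =>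
    Characters.isClassFunction_of_isIrr (ChevSteinberg.steinberg_irr hW h) a x
  have hsing : ∀ a : ↥(D.group F), p ∣ orderOf a → f a = 0 :=
    ChevSteinberg.steinberg_singular hW h p
  -- a minimal parabolic containing a conjugate
  obtain ⟨K, ⟨a, ha⟩, hmin⟩ := exists_minimal_of_wellFoundedLT
    (fun K : Finset (Fin D.rank) => ∃ a : ↥(D.group F), a * g * a⁻¹ ∈ pG hW F K)
    ⟨Finset.univ, 1, Subgroup.mem_subgroupOf.2 (by rw [PJ_univ]; exact Subtype.property _)⟩
  set s := a * g * a⁻¹ with hs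
  have hell : Elliptic hW K s := ⟨ha, fun K' hK' b _ hmem => hK'.not_ge (hmin
    ⟨b⁻¹ * a, by rwa [show b⁻¹ * a * g * (b⁻¹ * a)⁻¹ = b⁻¹ * (a * g * a⁻¹) * b by group]⟩ hK'.le)⟩
  have hso : ¬ p ∣ orderOf s := by
    rwa [show orderOf s = orderOf g from
      orderOf_injective (MulAut.conj a).toMonoidHom (MulAut.conj a).injective g]
  -- the average over the radical
  set Q := qG hW F K
  have hQ : IsPGroup p Q := fun u => by
    obtain ⟨j, hj⟩ := pel_of_mem_pos p hW (QJ_le_pos hW K (Subgroup.mem_subgroupOf.1 u.2))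
    exact ⟨j, Subtype.ext (Subtype.ext hj)⟩
  have hn : s ∈ Subgroup.normalizer (Q : Set ↥(D.group F)) := pG_le_normalizer hW K h ha
  have h1 := sum_coset hp hQ hn hso f hclass hsing
  have hθ : (∑ L : Finset (Fin D.rank), (-1 : ℤ) ^ L.card *
      (fixedOrbits Q s (↥(D.group F) ⧸ pG hW F L) : ℤ)) = (-1) ^ K.card := by
    simp only [show ∀ L, fixedOrbits Q s (↥(D.group F) ⧸ pG hW F L) =
      Nat.card {w : M.Group // Full h K L w} from fun L => fixedOrbits_eq hW h hell]
    exact sum_full h K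
  rw [hf, sum_steinberg hW hn, hθ, ← hf] at h1
  set c := Nat.card ↥(Q ⊓ Subgroup.centralizer {s}) with hc
  have hfs : f s = ((-1) ^ K.card : ℤ) * (c : ℂ) := by
    refine mul_left_cancel₀ (Nat.cast_ne_zero.2 (Nat.card_pos (α := Q)).ne') ?_
    rw [← h1]
    ring
  -- divisibility by a Sylow subgroup of the centraliser
  set Z := Subgroup.centralizer ({s} : Set ↥(D.group F)) with hZ
  obtain ⟨P⟩ : Nonempty (Sylow p Z) := inferInstance
  set P' := (P : Subgroup Z).map Z.subtype with hP'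
  have hP'Z : P' ≤ Z := Subgroup.map_subtype_le _
  have hP'p : IsPGroup p P' := P.isPGroup'.map _
  have hn' : s ∈ Subgroup.normalizer (P' : Set ↥(D.group F)) :=
    Subgroup.mem_normalizer_iff.2 fun u => by
      have key : ∀ u ∈ P', s * u * s⁻¹ = u := fun u hu => by
        rw [← Subgroup.mem_centralizer_singleton_iff.1 (hP'Z hu), mul_inv_cancel_right]
      refine ⟨fun hu => by rwa [key u hu], fun hu => ?_⟩
      have hcm := Subgroup.mem_centralizer_singleton_iff.1 (hP'Z hu)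
      rwa [show u = s * u * s⁻¹ by
        conv_lhs => rw [show u = s⁻¹ * (s * u * s⁻¹ * s) by group, hcm]
        group]
  have h2 := sum_coset hp hP'p hn' hso f hclass hsing
  rw [hf, sum_steinberg hW hn', ← hf, inf_eq_left.2 hP'Z] at h2
  set θ := ∑ L : Finset (Fin D.rank), (-1 : ℤ) ^ L.card *
      (fixedOrbits P' s (↥(D.group F) ⧸ pG hW F L) : ℤ)
  have hd : (Nat.card P' : ℤ) ∣ (c : ℤ) := by
    refine Dvd.intro (θ * (-1) ^ K.card) ?_
    have h3 : f s = (Nat.card P' : ℂ) * (θ : ℂ) :=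
      (mul_left_cancel₀ (Nat.cast_ne_zero.2 (Nat.card_pos (α := P')).ne') h2).symm
    rw [hfs] at h3
    have h4 : ((-1) ^ K.card : ℤ) * (c : ℤ) = (Nat.card P' : ℤ) * θ := by exact_mod_cast h3
    rw [← mul_assoc, ← h4, mul_comm ((-1 : ℤ) ^ K.card) (c : ℤ), mul_assoc, ← pow_add]
    simp
  have hcard : Nat.card P' = p ^ (Nat.card Z).factorization p := by
    rw [hP', Nat.card_congr (Subgroup.equivMapOfInjective _ _ Z.subtype_injective).symm.toEquiv,
      P.card_eq_multiplicity]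
  obtain ⟨j, hj⟩ := (hQ.to_le (inf_le_left : Q ⊓ Z ≤ Q)).exists_card_eq
  have hjle : j ≤ (Nat.card Z).factorization p := by
    refine (hp.pow_dvd_iff_le_factorization Nat.card_pos.ne').1 ?_
    rw [← hj]
    exact Subgroup.card_dvd_of_le inf_le_right
  have hceq : c = p ^ (Nat.card Z).factorization p := by
    have hd' : Nat.card P' ∣ c := by exact_mod_cast hd
    rw [hcard, hc, hj, Nat.pow_dvd_pow_iff_le_right hp.one_lt] at hd'
    rw [hc, hj, le_antisymm hjle hd']
  have hZg : Nat.card Z = Nat.card ↥(Subgroup.centralizer ({g} : Set ↥(D.group F))) := by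
    refine Nat.card_congr ((Equiv.subtypeEquiv (MulAut.conj a).symm.toEquiv fun x => ?_))
    rw [hZ, Subgroup.mem_centralizer_singleton_iff, Subgroup.mem_centralizer_singleton_iff, hs]
    show _ ↔ a⁻¹ * x * a * g = g * (a⁻¹ * x * a)
    constructor
    · intro e
      calc a⁻¹ * x * a * g = a⁻¹ * (x * (a * g * a⁻¹)) * a := by group
        _ = g * (a⁻¹ * x * a) := by rw [e]; group
    · intro e
      calc x * (a * g * a⁻¹) = a * (a⁻¹ * x * a * g) * a⁻¹ := by group
        _ = a * g * a⁻¹ * x := by rw [e]; group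
  rw [← hclass g a, ← hs, hfs, ← hZg, ← hceq]
  rcases neg_one_pow_eq_or ℤ K.card with e | e <;> rw [e] <;> simp

end CfsgLib.ChevSS
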