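import Mathlib
import Cfsg.Agent.RelGlauberman.Twisted

/-!
# Averages over a coset of a `p`-subgroup normalised by a `p`-regular element
-/

set_option autoImplicit false
set_option linter.unusedSectionVars false

namespace CfsgLib.ChevSS

open scoped Classical

variable {G : Type*} [Group G] [Finite G] {p : ℕ}

/-- A `p`-regular element of `Q s` is a `Q`-conjugate of `s`. -/
theorem exists_conj_eq (hp : p.Prime) {Q : Subgroup G} (hQ : IsPGroup p Q) {s : G}
    (hn : s ∈ Subgroup.normalizer (Q : Set G)) (hs : ¬ p ∣ orderOf s) (u : Q)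
    (hu : ¬ p ∣ orderOf ((u : G) * s)) : ∃ x : Q, (x : G) * s * (x : G)⁻¹ = (u : G) * s := by
  have : Fact p.Prime := ⟨hp⟩
  let β : MulAut Q :=
    { toFun := fun x => ⟨s * x * s⁻¹, (Subgroup.mem_normalizer_iff.1 hn x).1 x.2⟩
      invFun := fun x => ⟨s⁻¹ * x * s, by
        simpa using (Subgroup.mem_normalizer_iff.1 (inv_mem hn) x).1 x.2⟩
      left_inv := fun x => Subtype.ext (by
        show s⁻¹ * (s * x * s⁻¹) * s = x
        group)
      right_inv := fun x => Subtype.ext (by
        show s * (s⁻¹ * x * s) * s⁻¹ = x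
        group)
      map_mul' := fun x y => Subtype.ext (by
        show s * ((x : G) * y) * s⁻¹ = s * x * s⁻¹ * (s * y * s⁻¹)
        group) }
  have hβ : ∀ (m : ℕ) (x : Q), ((β ^ m) x : G) = s ^ m * x * (s ^ m)⁻¹ := by
    intro m
    induction m with
    | zero => intro x; simp
    | succ m ih =>
      intro x
      rw [pow_succ', MulAut.mul_apply]
      show s * ((β ^ m) x : G) * s⁻¹ = _
      rw [ih, pow_succ' s m]
      group
  have hN : β ^ orderOf s = 1 := MulEquiv.ext fun x => Subtype.ext (by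
    rw [hβ, pow_orderOf_eq_one]
    simp)
  obtain ⟨n, hcard⟩ := hQ.exists_card_eq
  have hco : (Nat.card Q).Coprime (orderOf s) :=
    hcard ▸ (hp.coprime_iff_not_dvd.2 hs).pow_left n
  obtain ⟨x, c, hc, e⟩ := RelGlauberman.twist_exists_fixed β (orderOf s) hN hco u
  have hc' : s * (c : G) * s⁻¹ = c := congrArg Subtype.val hc
  have e' : (x : G) * c * (s * x * s⁻¹)⁻¹ = u := congrArg Subtype.val e
  have hcomm : Commute (c : G) s := by
    show (c : G) * s = s * c
    conv_lhs => rw [← hc']
    group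
  have hconj : (x : G) * ((c : G) * s) * (x : G)⁻¹ = (u : G) * s := by
    rw [← e']
    group
  have h2 : orderOf (c : G) ∣ p ^ n := by
    rw [Subgroup.orderOf_coe, ← hcard]
    exact orderOf_dvd_natCard c
  have hcop : (orderOf (c : G)).Coprime (orderOf s) :=
    Nat.Coprime.coprime_dvd_left h2 ((hp.coprime_iff_not_dvd.2 hs).pow_left n)
  have h1 : orderOf ((u : G) * s) = orderOf (c : G) * orderOf s := by
    rw [← hconj, ← hcomm.orderOf_mul_eq_mul_orderOf_of_coprime hcop]
    exact orderOf_injective (MulAut.conj (x : G)).toMonoidHom (MulAut.conj (x : G)).injective _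
  obtain ⟨j, -, hj⟩ := (Nat.dvd_prime_pow hp).1 h2
  have hj0 : j = 0 := by
    by_contra hne
    refine hu (h1 ▸ dvd_mul_of_dvd_left ?_ _)
    rw [hj]
    exact dvd_pow_self p hne
  rw [hj0, pow_zero, orderOf_eq_one_iff] at hj
  exact ⟨x, by rw [← hconj, hj, one_mul]⟩

/-- The average of a class function vanishing at the `p`-singular elements. -/
theorem sum_coset (hp : p.Prime) {Q : Subgroup G} [Fintype Q] (hQ : IsPGroup p Q) {s : G}
    (hn : s ∈ Subgroup.normalizer (Q : Set G)) (hs : ¬ p ∣ orderOf s) (f : G → ℂ)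
    (hclass : ∀ g x, f (x * g * x⁻¹) = f g) (hsing : ∀ g, p ∣ orderOf g → f g = 0) :
    (Nat.card ↥(Q ⊓ Subgroup.centralizer {s}) : ℂ) * ∑ u : Q, f ((u : G) * s) =
      (Nat.card Q : ℂ) * f s := by
  set φ : Q → Q := fun x => ⟨(x : G) * (s * (x : G)⁻¹ * s⁻¹),
    mul_mem x.2 ((Subgroup.mem_normalizer_iff.1 hn _).1 (inv_mem x.2))⟩ with hφ
  have hφs : ∀ x : Q, (φ x : G) * s = (x : G) * s * (x : G)⁻¹ := fun x => by
    simp only [hφ]
    group
  have hfib : ∀ x₀ : Q, (Finset.univ.filter fun x => φ x = φ x₀).card =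
      Nat.card ↥(Q ⊓ Subgroup.centralizer {s}) := by
    intro x₀
    rw [← Nat.card_eq_finsetCard]
    refine Nat.card_congr
      { toFun := fun x => ⟨(x₀ : G)⁻¹ * (x.1 : G), Subgroup.mem_inf.2
          ⟨mul_mem (inv_mem x₀.2) x.1.2, Subgroup.mem_centralizer_singleton_iff.2 ?_⟩⟩
        invFun := fun c => ⟨x₀ * ⟨c.1, (Subgroup.mem_inf.1 c.2).1⟩,
          Finset.mem_filter.2 ⟨Finset.mem_univ _, ?_⟩⟩
        left_inv := fun x => Subtype.ext (Subtype.ext (by simp))
        right_inv := fun c => Subtype.ext (by simp) }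
    · have e : (x.1 : G) * s * (x.1 : G)⁻¹ = (x₀ : G) * s * (x₀ : G)⁻¹ := by
        rw [← hφs, ← hφs, (Finset.mem_filter.1 x.2).2]
      calc (x₀ : G)⁻¹ * (x.1 : G) * s = (x₀ : G)⁻¹ * ((x.1 : G) * s * (x.1 : G)⁻¹) * x.1 := by group
        _ = s * ((x₀ : G)⁻¹ * (x.1 : G)) := by rw [e]; group
    · have hc := Subgroup.mem_centralizer_singleton_iff.1 (Subgroup.mem_inf.1 c.2).2
      refine Subtype.ext (mul_right_cancel (b := s) ?_)
      rw [hφs, hφs]
      show (x₀ : G) * c.1 * s * ((x₀ : G) * c.1)⁻¹ = _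
      rw [mul_assoc (x₀ : G) c.1, hc]
      group
  have h1 : (Nat.card Q : ℂ) * f s = ∑ x : Q, f ((φ x : G) * s) := by
    rw [Finset.sum_congr rfl fun x _ => (congrArg f (hφs x)).trans (hclass s x), Finset.sum_const,
      Finset.card_univ, nsmul_eq_mul, Nat.card_eq_fintype_card]
  have h2 : ∑ u : Q, f ((u : G) * s) = ∑ u ∈ Finset.univ.image φ, f ((u : G) * s) := by
    refine (Finset.sum_subset (Finset.subset_univ _) fun u _ hu => hsing _ ?_).symm
    by_contra hreg
    obtain ⟨x, hx⟩ := exists_conj_eq hp hQ hn hs u hreg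
    refine hu (Finset.mem_image.2 ⟨x, Finset.mem_univ _, Subtype.ext (mul_right_cancel (b := s) ?_)⟩)
    rw [hφs, hx]
  rw [h1, h2, Finset.mul_sum, ← Finset.sum_fiberwise_of_maps_to (s := Finset.univ) (g := φ) (t := Finset.univ.image φ)
    (fun x _ => Finset.mem_image_of_mem _ (Finset.mem_univ x))]
  refine Finset.sum_congr rfl fun u hu => ?_
  obtain ⟨x₀, -, rfl⟩ := Finset.mem_image.1 hu
  rw [Finset.sum_congr rfl fun x hx => congrArg (fun v : Q => f ((v : G) * s))
    (Finset.mem_filter.1 hx).2, Finset.sum_const, nsmul_eq_mul, hfib]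

/-- The orbits of `Q` fixed by `s`. -/
noncomputable def fixedOrbits (Q : Subgroup G) (s : G) (X : Type*) [MulAction G X] : ℕ :=
  Nat.card {O : MulAction.orbitRel.Quotient Q X // ∃ x, Quotient.mk'' x = O ∧
    s • x ∈ MulAction.orbit Q x}

/-- Burnside's lemma for a coset of `Q`. -/
theorem sum_fixed {X : Type*} [MulAction G X] [Finite X] {Q : Subgroup G} [Fintype Q] {s : G}
    (hn : s ∈ Subgroup.normalizer (Q : Set G)) :
    ∑ u : Q, Nat.card (MulAction.fixedBy X ((u : G) * s)) =
      Nat.card Q * fixedOrbits Q s X := by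
  have : Fintype X := Fintype.ofFinite X
  have hstab : ∀ x : X, Nat.card {u : Q // ((u : G) * s) • x = x} =
      if s • x ∈ MulAction.orbit Q x then Nat.card (MulAction.stabilizer Q x) else 0 := by
    intro x
    split_ifs with hx
    · obtain ⟨v, hv⟩ := hx
      refine Nat.card_congr
        { toFun := fun u => ⟨u.1 * v, MulAction.mem_stabilizer_iff.2 ?_⟩
          invFun := fun z => ⟨z.1 * v⁻¹, ?_⟩
          left_inv := fun u => Subtype.ext (mul_inv_cancel_right _ _)
          right_inv := fun z => Subtype.ext (inv_mul_cancel_right _ _) }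
      · have hu := u.2
        rw [mul_smul, ← hv] at hu
        rwa [mul_smul]
      · rw [mul_smul, ← hv]
        show ((z.1 * v⁻¹ : Q)) • (v • x) = x
        rw [mul_smul, inv_smul_smul]
        exact z.2
    · refine Nat.card_eq_zero.2 (Or.inl ⟨fun u => hx ⟨u.1⁻¹, ?_⟩⟩)
      show (u.1⁻¹ : Q) • x = s • x
      rw [inv_smul_eq_iff]
      exact (u.2.symm.trans (mul_smul _ _ _) :)
  have hconst : ∀ (q : Q) (x : X), s • x ∈ MulAction.orbit Q x →
      s • (q • x) ∈ MulAction.orbit Q (q • x) := by
    rintro q x ⟨v, hv⟩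
    refine ⟨⟨s * q * s⁻¹, (Subgroup.mem_normalizer_iff.1 hn q).1 q.2⟩ * v * q⁻¹, ?_⟩
    show (_ * v * q⁻¹ : Q) • (q • x) = _
    rw [mul_smul, inv_smul_smul, mul_smul]
    show (s * (q : G) * s⁻¹) • (v • x) = s • ((q : G) • x)
    rw [show (v • x) = s • x from hv, smul_smul, smul_smul]
    group
  have hiff : ∀ (x : X), (∃ y, (Quotient.mk'' y : MulAction.orbitRel.Quotient Q X) = Quotient.mk'' x ∧
      s • y ∈ MulAction.orbit Q y) ↔ s • x ∈ MulAction.orbit Q x := by
    intro x
    refine ⟨fun ⟨y, hy, hs⟩ => ?_, fun hx => ⟨x, rfl, hx⟩⟩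
    obtain ⟨q, rfl⟩ := MulAction.orbitRel_apply.1 (Quotient.eq''.1 hy.symm)
    exact hconst q y hs
  calc ∑ u : Q, Nat.card (MulAction.fixedBy X ((u : G) * s))
      = ∑ u : Q, ∑ x : X, if ((u : G) * s) • x = x then 1 else 0 :=
        Finset.sum_congr rfl fun u _ => by
          rw [← Finset.card_filter, Nat.card_eq_fintype_card, Fintype.card_subtype]
          rfl
    _ = ∑ x : X, Nat.card {u : Q // ((u : G) * s) • x = x} := by
        rw [Finset.sum_comm]
        exact Finset.sum_congr rfl fun x _ => by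
          rw [← Finset.card_filter, Nat.card_eq_fintype_card, Fintype.card_subtype]
    _ = ∑ O : MulAction.orbitRel.Quotient Q X,
          if (∃ y, Quotient.mk'' y = O ∧ s • y ∈ MulAction.orbit Q y) then Nat.card Q else 0 := by
        rw [← Finset.sum_fiberwise (g := fun x : X =>
          (Quotient.mk'' x : MulAction.orbitRel.Quotient Q X))]
        refine Finset.sum_congr rfl fun O _ => ?_
        induction O using Quotient.inductionOn' with | _ x => ?_
        have hfil : (Finset.univ.filter fun y : X =>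
            (Quotient.mk'' y : MulAction.orbitRel.Quotient Q X) = Quotient.mk'' x).card =
            Nat.card (MulAction.orbit Q x) := by
          rw [Nat.card_eq_fintype_card, Fintype.card_subtype]
          congr 1
          ext y
          simp [Quotient.eq'', MulAction.orbitRel_apply]
        have hmem : ∀ y ∈ Finset.univ.filter fun y : X =>
            (Quotient.mk'' y : MulAction.orbitRel.Quotient Q X) = Quotient.mk'' x,
            Nat.card {u : Q // ((u : G) * s) • y = y} =
              if (∃ z, (Quotient.mk'' z : MulAction.orbitRel.Quotient Q X) = Quotient.mk'' x ∧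
                  s • z ∈ MulAction.orbit Q z)
              then Nat.card (MulAction.stabilizer Q x) else 0 := by
          intro y hy
          obtain ⟨q, rfl⟩ := MulAction.orbitRel_apply.1 (Quotient.eq''.1 (Finset.mem_filter.1 hy).2)
          rw [hstab, ← (Finset.mem_filter.1 hy).2]
          simp only [hiff]
          rw [show Nat.card (MulAction.stabilizer Q (q • x)) =
            Nat.card (MulAction.stabilizer Q x) from
              (Nat.card_congr (MulAction.stabilizerEquivStabilizer (g := q) rfl).toEquiv).symm]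
        rw [Finset.sum_congr rfl hmem, Finset.sum_const, hfil, smul_eq_mul]
        split_ifs
        · rw [← Nat.card_prod, Nat.card_congr (MulAction.orbitProdStabilizerEquivGroup Q x)]
        · rw [mul_zero]
    _ = Nat.card Q * fixedOrbits Q s X := by
        rw [← Finset.sum_filter, Finset.sum_const, smul_eq_mul, mul_comm]
        congr 1
        rw [fixedOrbits, Nat.card_eq_fintype_card, Fintype.card_subtype]

end CfsgLib.ChevSS
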